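import Mathlib
import Groth.Agent.Lib.Helper24.FibreDim.Main4943
import Groth.Agent.Lib.Helper24.FibreDim.Main1553
import Groth.Agent.Lib.Helper4.IsolatedPoint
import Groth.Agent.Lib.lead.GenFiniteTFAE
import Groth.Agent.Lib.lead.FibreDimBCLocal

/-!
# Quasi-finiteness at a point and local fibre dimension zero (helper24)
-/

set_option autoImplicit false
set_option linter.style.haveILetI false
universe u
open AlgebraicGeometry CategoryTheory CategoryTheory.Limits Groth.Agent.Lib.Helper7 Groth.Agent.Lib.lead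
  Groth.Agent.Lib.Helper18 Groth.Agent.Lib.Helper24.FibreDim

namespace Groth.Agent.Lib.Helper24.QFin

variable {X Y : Scheme.{u}}

theorem fibreDimAt_eq_zero_iff (g : X ⟶ Y) [LocallyOfFiniteType g] (z : X) :
    FlatMor.fibreDimAt g z = 0 ↔ tr g z = 0 ∧ FibreOrder.G g z = 0 := by
  rw [fibreDimAt_eq_tr_add_G g z]
  constructor
  · intro h
    have h' : ((tr g z : ℕ) : ℕ∞) + FibreOrder.G g z = 0 := by exact_mod_cast h
    obtain ⟨h1, h2⟩ := add_eq_zero.mp h'
    exact ⟨by exact_mod_cast h1, h2⟩
  · rintro ⟨h1, h2⟩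
    rw [h1, h2]
    simp

/-- Quasi-finite at a point implies local fibre dimension zero. -/
theorem fibreDimAt_eq_zero_of_quasiFiniteAt (g : X ⟶ Y) [LocallyOfFiniteType g] (z : X)
    (hq : g.QuasiFiniteAt z) : FlatMor.fibreDimAt g z = 0 := by
  rw [fibreDimAt_eq_zero_iff]
  refine ⟨GenFiniteTFAE.tr_eq_zero_of_quasiFiniteAt g z hq, ?_⟩
  have h2 := (Groth.Agent.Lib.Helper4.IsolatedPoint.main g z).mp hq
  rw [G_eq_zero_iff]
  intro z' hz' hsp
  obtain ⟨w', hw'⟩ := exists_fibre_point g z' (g z) hz'
  have hsp' : w' ⤳ g.asFiber z := by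
    rw [← (g.fiberι (g z)).isEmbedding.isInducing.specializes_iff, hw', g.fiberι_asFiber]
    exact hsp
  have h3 := h2.2 w' hsp'
  rw [← hw', h3, g.fiberι_asFiber]

/-- Local fibre dimension zero implies quasi-finite at the point. -/
theorem quasiFiniteAt_of_fibreDimAt_eq_zero (g : X ⟶ Y) [LocallyOfFiniteType g] (x : X)
    (h : FlatMor.fibreDimAt g x = 0) : g.QuasiFiniteAt x := by
  obtain ⟨htr, hG⟩ := (fibreDimAt_eq_zero_iff g x).mp h
  rw [Groth.Agent.Lib.Helper4.IsolatedPoint.main]
  have hinj : Function.Injective (g.fiberι (g x)) := (g.fiberι (g x)).isEmbedding.injective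
  constructor
  · rw [← closure_eq_iff_isClosed]
    apply Set.Subset.antisymm _ subset_closure
    intro w hw
    have h1 : g.asFiber x ⤳ w := specializes_iff_mem_closure.mpr hw
    have h2 : x ⤳ g.fiberι (g x) w := by
      have := h1.map (g.fiberι (g x)).continuous
      rwa [g.fiberι_asFiber] at this
    have hfw : g (g.fiberι (g x) w) = g x := by
      have : g.fiberι (g x) w ∈ Set.range (g.fiberι (g x)) := ⟨w, rfl⟩
      rw [g.range_fiberι] at this
      exact this
    by_contra hne
    have hne' : g.fiberι (g x) w ≠ x := by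
      intro heq
      apply hne
      rw [Set.mem_singleton_iff]
      apply hinj
      rw [heq, g.fiberι_asFiber]
    have hlt : g.fiberι (g x) w < x :=
      lt_of_le_not_ge h2 (fun h3 => hne' ((Specializes.antisymm h3 h2).eq))
    have := tr_lt_of_lt g hlt hfw
    omega
  · intro w hw
    have h2 : g.fiberι (g x) w ⤳ x := by
      have := hw.map (g.fiberι (g x)).continuous
      rwa [g.fiberι_asFiber] at this
    have hfw : g (g.fiberι (g x) w) = g x := by
      have : g.fiberι (g x) w ∈ Set.range (g.fiberι (g x)) := ⟨w, rfl⟩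
      rw [g.range_fiberι] at this
      exact this
    have h3 := (G_eq_zero_iff g x).mp hG _ hfw h2
    apply hinj
    rw [h3, g.fiberι_asFiber]

theorem fibreDimAt_eq_zero_of_lqf (g : X ⟶ Y) [LocallyOfFiniteType g] [LocallyQuasiFinite g]
    (z : X) : FlatMor.fibreDimAt g z = 0 :=
  fibreDimAt_eq_zero_of_quasiFiniteAt g z (g.quasiFiniteAt z)

/-- A morphism locally of finite type all of whose local fibre dimensions vanish is locally
quasi-finite. -/
theorem locallyQuasiFinite_of_fibreDimAt_eq_zero (g : X ⟶ Y) [LocallyOfFiniteType g]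
    (h : ∀ x : X, FlatMor.fibreDimAt g x = 0) : LocallyQuasiFinite g := by
  rw [locallyQuasiFinite_iff_isDiscrete_preimage_singleton]
  intro y
  constructor
  rw [discreteTopology_iff_isOpen_singleton]
  rintro ⟨x, hx⟩
  have hx' : g x = y := hx
  subst hx'
  have hq := quasiFiniteAt_of_fibreDimAt_eq_zero g x (h x)
  have ho := Scheme.Hom.quasiFiniteAt_iff_isOpen_singleton_asFiber.mp hq
  have := (g.fiberHomeo (g x)).isOpenMap _ ho
  rw [Set.image_singleton] at this
  convert this using 2
  simp [Scheme.Hom.asFiber]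

end Groth.Agent.Lib.Helper24.QFin
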