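import Mathlib
import Groth.Agent.Lib.Helper24.QFin.Basic
import Groth.Prelude.Def_Neron

/-!
# Flat + generically quasi-finite over a Dedekind base implies quasi-finite (helper24)
-/

set_option autoImplicit false
set_option linter.style.haveILetI false
universe u
open AlgebraicGeometry CategoryTheory CategoryTheory.Limits Groth.Agent.Lib.Helper7 Groth.Agent.Lib.lead
  Groth.Agent.Lib.Helper18 Groth.Agent.Lib.Helper24.FibreDim

namespace Groth.Agent.Lib.Helper24.QFin

theorem genPt_apply (R : Type u) [CommRing R] [IsDomain R]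
    (s : Spec (CommRingCat.of (FractionRing R))) :
    (Neron.genPt R) s = genericPoint ↥(Spec (CommRingCat.of R)) := by
  rw [genericPoint_eq_bot_of_affine (CommRingCat.of R)]
  apply PrimeSpectrum.ext
  have hs : s.asIdeal = ⊥ := Ideal.eq_bot_of_prime s.asIdeal
  show Ideal.comap (algebraMap R (FractionRing R)) s.asIdeal = ⊥
  rw [hs]
  exact Ideal.comap_bot_of_injective _ (IsFractionRing.injective R (FractionRing R))

theorem main18485 (R : Type u) [CommRing R]
    [IsDedekindDomain R] (H : Over (Spec (CommRingCat.of R))) [Flat H.hom]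
    [LocallyOfFiniteType H.hom]
    [LocallyQuasiFinite ((Neron.genericFibre R).obj H).hom] : LocallyQuasiFinite H.hom := by
  haveI : LocallyQuasiFinite (pullback.snd H.hom (Neron.genPt R)) :=
    ‹LocallyQuasiFinite ((Neron.genericFibre R).obj H).hom›
  -- points over the generic point
  have hgen : ∀ x : H.left, H.hom x = genericPoint ↥(Spec (CommRingCat.of R)) →
      FlatMor.fibreDimAt H.hom x = 0 := by
    intro x hx
    let s₀ : Spec (CommRingCat.of (FractionRing R)) := default
    have hx' : H.hom x = (Neron.genPt R) s₀ := by rw [genPt_apply]; exact hx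
    obtain ⟨z, hz1, -⟩ := Scheme.Pullback.exists_preimage_pullback x s₀ hx'
    have hbc := FibreDimBCLocal.fibreDimAt_baseChange H.hom (Neron.genPt R)
      (pullback.fst H.hom (Neron.genPt R)) (pullback.snd H.hom (Neron.genPt R))
      (IsPullback.of_hasPullback _ _) z
    rw [hz1] at hbc
    rw [← hbc]
    exact fibreDimAt_eq_zero_of_lqf _ z
  apply locallyQuasiFinite_of_fibreDimAt_eq_zero
  intro x
  obtain ⟨z, hz, hzx, hmax, htr⟩ := exists_max_tr H.hom x
  obtain ⟨ξ, hξz, hfξ⟩ := (Flat.generalizingMap H.hom) (_root_.genericPoint_specializes (H.hom z))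
  have hξ0 := hgen ξ hfξ
  have htrξ : tr H.hom ξ = 0 := ((fibreDimAt_eq_zero_iff H.hom ξ).mp hξ0).1
  by_cases hne : H.hom ξ = H.hom z
  · exact hgen x (by rw [← hz, ← hne]; exact hfξ)
  · haveI : IsNoetherianRing ((Spec (CommRingCat.of R)).presheaf.stalk (H.hom z)) := inferInstance
    have h1 := tr_add_one_le H.hom z ξ hξz hne
    have h2 : ringKrullDim ((Spec (CommRingCat.of R)).presheaf.stalk (H.hom z)) ≤ 1 := by
      rw [AlgebraicGeometry.ringKrullDim_stalk_eq_coheight]
      have h3 := StalkDimIneq.coheight_le_topologicalKrullDim (Spec (CommRingCat.of R)) (H.hom z)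
      have h4 : topologicalKrullDim ↥(Spec (CommRingCat.of R)) = ringKrullDim R :=
        PrimeSpectrum.topologicalKrullDim_eq_ringKrullDim R
      have h5 : ringKrullDim R ≤ 1 := Ring.krullDimLE_iff.mp inferInstance
      exact (h3.trans (h4.le)).trans h5
    rw [htrξ] at h1
    have h6 : ((tr H.hom z : ℕ) : WithBot ℕ∞) + 1 ≤ ((0 : ℕ) : WithBot ℕ∞) + 1 :=
      h1.trans (add_le_add_right h2 _)
    have h7 : tr H.hom z = 0 := by
      have : ((tr H.hom z + 1 : ℕ) : WithBot ℕ∞) ≤ ((0 + 1 : ℕ) : WithBot ℕ∞) := by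
        push_cast
        exact h6
      have : tr H.hom z + 1 ≤ 0 + 1 := by exact_mod_cast this
      omega
    rw [← htr, h7]
    rfl

end Groth.Agent.Lib.Helper24.QFin
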